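import Cfsg.Agent.Steiner.Counting
import Mathlib

/-!
Disjointness counts in a Steiner system with parameters (3, 6, 22).
-/

set_option autoImplicit false

open Finset

namespace CfsgLib.Steiner

variable {α : Type*} [Fintype α] [DecidableEq α] {B : Set (Finset α)}

theorem inter_zero_or_two_322 (hα : Fintype.card α = 22) (hB : Cfsg.IsSteinerSystem 3 6 B) {b c : Finset α}
    (hb : b ∈ B) (hc : c ∈ B) (hbc : b ≠ c) : (b ∩ c).card = 0 ∨ (b ∩ c).card = 2 := by
  obtain ⟨-, h1, -⟩ := interCount_3_6_22 hα hB hb
  have hp := interCount_pos (B := B) hc hbc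
  have hlt := inter_card_lt hB hb hc hbc
  generalize (b ∩ c).card = j at hp hlt ⊢
  interval_cases j <;> omega

theorem lambda_one_322 (hα : Fintype.card α = 22) (hB : Cfsg.IsSteinerSystem 3 6 B) (p : α) :
    (blocksThrough B {p}).card = 21 := by
  have h := blocksThrough_card_mul hB (s := {p}) (by simp)
  rw [hα, card_singleton, show Nat.choose (6 - 1) (3 - 1) = 10 by decide,
    show Nat.choose (22 - 1) (3 - 1) = 210 by decide] at h
  omega

theorem lambda_two_322 (hα : Fintype.card α = 22) (hB : Cfsg.IsSteinerSystem 3 6 B) {p q : α} (hpq : p ≠ q) :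
    (blocksThrough B {p, q}).card = 5 := by
  have h := blocksThrough_card_mul hB (s := {p, q}) (by rw [card_pair hpq]; omega)
  rw [hα, card_pair hpq, show Nat.choose (6 - 2) (3 - 2) = 4 by decide,
    show Nat.choose (22 - 2) (3 - 2) = 20 by decide] at h
  omega

omit [Fintype α] in
/-- Double counting: with intersections in `{0, 2}`, the sum counts twice the meeting sets. -/
theorem sum_inter_eq_two_mul {S : Finset (Finset α)} {c : Finset α}
    (h : ∀ d ∈ S, (c ∩ d).card = 0 ∨ (c ∩ d).card = 2) :
    ∑ x ∈ c, (S.filter fun d => x ∈ d).card = 2 * (S.filter fun d => ¬ Disjoint c d).card := by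
  have h1 : ∑ x ∈ c, (S.filter fun d => x ∈ d).card = ∑ d ∈ S, (c ∩ d).card := by
    simp only [card_filter]
    rw [sum_comm]
    refine sum_congr rfl fun d _ => ?_
    rw [← card_filter, filter_mem_eq_inter]
  rw [h1, card_filter, mul_sum]
  refine sum_congr rfl fun d hd => ?_
  by_cases hdis : Disjoint c d
  · simp [disjoint_iff_inter_eq_empty.mp hdis, hdis]
  · rcases h d hd with h0 | h2
    · exact absurd (disjoint_iff_inter_eq_empty.mpr (card_eq_zero.mp h0)) hdis
    · simp [h2, hdis]

/-- The blocks disjoint from `b`. -/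
noncomputable def avoiding (B : Set (Finset α)) (b : Finset α) : Finset (Finset α) :=
  (blocks B).filter (Disjoint b ·)

theorem mem_avoiding {b d : Finset α} : d ∈ avoiding B b ↔ d ∈ B ∧ Disjoint b d := by
  simp [avoiding]

theorem card_avoiding_322 (hα : Fintype.card α = 22) (hB : Cfsg.IsSteinerSystem 3 6 B) {b : Finset α} (hb : b ∈ B) :
    (avoiding B b).card = 16 := by
  refine ((congrArg Finset.card ?_).trans (interCount_3_6_22 hα hB hb).1)
  ext d
  simp only [avoiding, mem_filter, mem_erase, disjoint_iff_inter_eq_empty, card_eq_zero]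
  refine ⟨fun h => ⟨⟨?_, h.1⟩, h.2⟩, fun h => ⟨h.1.2, h.2⟩⟩
  rintro rfl
  have := h.2
  rw [inter_self] at this
  simpa [this] using hB.1 d hb

theorem avoiding_through_322 (hα : Fintype.card α = 22) (hB : Cfsg.IsSteinerSystem 3 6 B) {b : Finset α} (hb : b ∈ B)
    {p : α} (hp : p ∉ b) : ((avoiding B b).filter (p ∈ ·)).card = 6 := by
  have h := sum_inter_eq_two_mul (S := blocksThrough B {p}) (c := b) fun d hd => by
    obtain ⟨hdB, hpd⟩ := mem_blocksThrough.1 hd
    exact inter_zero_or_two_322 hα hB hb hdB (by rintro rfl; exact hp (singleton_subset_iff.1 hpd))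
  rw [sum_congr rfl (fun x hx => (congrArg Finset.card (by
    ext d
    simp only [mem_filter, mem_blocksThrough, insert_subset_iff, singleton_subset_iff]
    tauto : (blocksThrough B {p}).filter (fun d => x ∈ d) = blocksThrough B {p, x})).trans
    (lambda_two_322 hα hB (fun e => hp (e ▸ hx)))), sum_const, hB.1 b hb, smul_eq_mul] at h
  have h2 : ((avoiding B b).filter (p ∈ ·)) = (blocksThrough B {p}).filter fun d => ¬ ¬ Disjoint b d := by
    ext d
    simp only [mem_filter, mem_avoiding, mem_blocksThrough, singleton_subset_iff, not_not]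
    tauto
  have h3 := card_filter_add_card_filter_not (s := blocksThrough B {p}) (fun d => ¬ Disjoint b d)
  rw [lambda_one_322 hα hB] at h3
  rw [h2]
  omega

/-- Two disjoint blocks have no block disjoint from both. -/
theorem avoiding_inter_of_disjoint (hα : Fintype.card α = 22) (hB : Cfsg.IsSteinerSystem 3 6 B) {b c : Finset α}
    (hb : b ∈ B) (hc : c ∈ B) (hbc : Disjoint b c) : (avoiding B b).filter (Disjoint c ·) = ∅ := by
  have hcne : c.Nonempty := card_pos.1 (by rw [hB.1 c hc]; norm_num)
  have h := sum_inter_eq_two_mul (S := (avoiding B b).erase c) (c := c) fun d hd => by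
    obtain ⟨hne, hd⟩ := mem_erase.1 hd
    exact inter_zero_or_two_322 hα hB hc (mem_avoiding.1 hd).1 hne.symm
  rw [sum_congr rfl (fun x hx => (by
    rw [filter_erase, card_erase_of_mem (mem_filter.2 ⟨mem_avoiding.2 ⟨hc, hbc⟩, hx⟩),
      avoiding_through_322 hα hB hb (disjoint_right.1 hbc hx)] :
    (((avoiding B b).erase c).filter fun d => x ∈ d).card = 6 - 1)), sum_const, hB.1 c hc, smul_eq_mul] at h
  have hall : ((avoiding B b).erase c).filter (fun d => ¬ Disjoint c d) = (avoiding B b).erase c := by
    refine eq_of_subset_of_card_le (filter_subset _ _) ?_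
    rw [card_erase_of_mem (mem_avoiding.2 ⟨hc, hbc⟩), card_avoiding_322 hα hB hb]
    omega
  rw [filter_eq_empty_iff]
  intro d hd hcd
  rcases eq_or_ne d c with rfl | hne
  · exact hcne.ne_empty (disjoint_self.mp hcd)
  · have := hall.symm ▸ mem_erase.2 ⟨hne, hd⟩
    exact (mem_filter.1 this).2 hcd

/-- Two blocks meeting in two points have four blocks disjoint from both. -/
theorem avoiding_inter_of_meet (hα : Fintype.card α = 22) (hB : Cfsg.IsSteinerSystem 3 6 B) {b c : Finset α}
    (hb : b ∈ B) (hc : c ∈ B) (hne : b ≠ c) (hbc : ¬ Disjoint b c) :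
    ((avoiding B b).filter (Disjoint c ·)).card = 4 := by
  have h2 : (b ∩ c).card = 2 := (inter_zero_or_two_322 hα hB hb hc hne).resolve_left fun h0 =>
    hbc (disjoint_iff_inter_eq_empty.2 (card_eq_zero.1 h0))
  have h := sum_inter_eq_two_mul (S := avoiding B b) (c := c) fun d hd => by
    exact inter_zero_or_two_322 hα hB hc (mem_avoiding.1 hd).1 (by rintro rfl; exact hbc (mem_avoiding.1 hd).2)
  rw [← sum_inter_add_sum_sdiff c b, sum_eq_zero (fun x hx => by
      rw [card_eq_zero, filter_eq_empty_iff]
      exact fun d hd hxd => disjoint_left.1 (mem_avoiding.1 hd).2 (mem_inter.1 hx).2 hxd), zero_add,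
    sum_congr rfl (fun x hx => avoiding_through_322 hα hB hb (mem_sdiff.1 hx).2), sum_const, smul_eq_mul,
    card_sdiff, hB.1 c hc, h2] at h
  have h3 := card_filter_add_card_filter_not (s := avoiding B b) (Disjoint c ·)
  rw [card_avoiding_322 hα hB hb] at h3
  omega

end CfsgLib.Steiner
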