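import Cfsg.Prelude.Def_Sporadic_a
import Cfsg.Agent.Eq.Def_Sporadic_a

/-!
Counting in Steiner systems: the number of blocks through a small set and the sums determining the
intersection numbers of two blocks.
-/

set_option autoImplicit false

open Finset

namespace CfsgLib.Steiner

variable {α : Type*} [DecidableEq α] {t k : ℕ} {B : Set (Finset α)}

/-- The blocks as a finite set. -/
noncomputable def blocks [Fintype α] (B : Set (Finset α)) : Finset (Finset α) :=
  B.toFinite.toFinset

@[simp] theorem mem_blocks [Fintype α] {b : Finset α} : b ∈ blocks B ↔ b ∈ B :=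
  Set.Finite.mem_toFinset _

theorem ncard_eq_card_blocks [Fintype α] : B.ncard = (blocks B).card :=
  Set.ncard_eq_toFinset_card _ _

/-- The blocks containing the set `s`. -/
noncomputable def blocksThrough [Fintype α] (B : Set (Finset α)) (s : Finset α) :
    Finset (Finset α) :=
  (blocks B).filter (s ⊆ ·)

theorem mem_blocksThrough [Fintype α] {s b : Finset α} :
    b ∈ blocksThrough B s ↔ b ∈ B ∧ s ⊆ b := by
  simp [blocksThrough]

theorem blocksThrough_card_mul [Fintype α] (hB : Cfsg.IsSteinerSystem t k B) {s : Finset α}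
    (hs : s.card ≤ t) :
    (blocksThrough B s).card * Nat.choose (k - s.card) (t - s.card)
      = Nat.choose (Fintype.card α - s.card) (t - s.card) := by
  classical
  have key : ((univ : Finset α).powersetCard t).filter (s ⊆ ·)
      = (blocksThrough B s).biUnion (fun b => (b.powersetCard t).filter (s ⊆ ·)) := by
    ext T
    simp only [mem_filter, mem_powersetCard, mem_biUnion, mem_blocksThrough, subset_univ, true_and]
    constructor
    · rintro ⟨hT, hsT⟩
      obtain ⟨b, ⟨hb, hTb⟩, -⟩ := hB.2 T hT
      exact ⟨b, ⟨hb, hsT.trans hTb⟩, ⟨hTb, hT⟩, hsT⟩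
    · rintro ⟨b, -, ⟨-, hT⟩, hsT⟩
      exact ⟨hT, hsT⟩
  have hdisj : ((blocksThrough B s : Finset (Finset α)) : Set (Finset α)).PairwiseDisjoint
      (fun b => (b.powersetCard t).filter (s ⊆ ·)) := by
    intro b hb c hc hne
    simp only [Function.onFun, Finset.disjoint_left, mem_filter, mem_powersetCard]
    rintro T ⟨⟨hTb, hT⟩, -⟩ ⟨⟨hTc, -⟩, -⟩
    exact hne ((hB.2 T hT).unique ⟨(mem_blocksThrough.1 hb).1, hTb⟩
      ⟨(mem_blocksThrough.1 hc).1, hTc⟩)
  have h := congrArg Finset.card key
  rw [card_filter_powersetCard_subset s univ t (subset_univ _) hs, card_univ,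
    card_biUnion hdisj] at h
  have h2 : ∀ b ∈ blocksThrough B s,
      ((b.powersetCard t).filter (s ⊆ ·)).card = Nat.choose (k - s.card) (t - s.card) := by
    intro b hb
    rw [card_filter_powersetCard_subset s b t (mem_blocksThrough.1 hb).2 hs,
      hB.1 b (mem_blocksThrough.1 hb).1]
  rw [sum_congr rfl h2, sum_const, smul_eq_mul] at h
  exact h.symm

theorem inter_card_lt (hB : Cfsg.IsSteinerSystem t k B) {b c : Finset α} (hb : b ∈ B) (hc : c ∈ B)
    (hne : b ≠ c) : (b ∩ c).card < t := by
  by_contra h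
  obtain ⟨T, hT, hTc⟩ := exists_subset_card_eq (not_lt.1 h)
  exact hne ((hB.2 T hTc).unique ⟨hb, hT.trans inter_subset_left⟩ ⟨hc, hT.trans inter_subset_right⟩)

/-- The number of blocks other than `b` meeting `b` in exactly `j` points. -/
noncomputable def interCount [Fintype α] (B : Set (Finset α)) (b : Finset α) (j : ℕ) : ℕ :=
  (((blocks B).erase b).filter fun c => (b ∩ c).card = j).card

theorem sum_interCount_mul_choose [Fintype α] (hB : Cfsg.IsSteinerSystem t k B) {b : Finset α}
    (hb : b ∈ B) {i m : ℕ} (hlam : ∀ s : Finset α, s.card = i → (blocksThrough B s).card = m) :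
    ∑ j ∈ range t, interCount B b j * Nat.choose j i = Nat.choose k i * (m - 1) := by
  classical
  have h1 : ∑ c ∈ (blocks B).erase b, Nat.choose (b ∩ c).card i
      = ∑ j ∈ range t, interCount B b j * Nat.choose j i := by
    rw [← sum_fiberwise_of_maps_to (t := range t) (g := fun c => (b ∩ c).card)]
    · refine sum_congr rfl fun j _ => ?_
      rw [interCount, ← smul_eq_mul, ← sum_const]
      refine sum_congr rfl fun c hc => ?_
      rw [(mem_filter.1 hc).2]
    · intro c hc
      obtain ⟨hne, hc⟩ := mem_erase.1 hc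
      exact mem_range.2 (inter_card_lt hB hb (mem_blocks.1 hc) hne.symm)
  rw [← h1]
  calc ∑ c ∈ (blocks B).erase b, Nat.choose (b ∩ c).card i
      = ∑ c ∈ (blocks B).erase b, ((b.powersetCard i).filter (· ⊆ c)).card := by
        refine sum_congr rfl fun c _ => ?_
        rw [← card_powersetCard]
        congr 1
        ext s
        simp only [mem_powersetCard, mem_filter, subset_inter_iff]
        tauto
    _ = ∑ s ∈ b.powersetCard i, (((blocks B).erase b).filter (s ⊆ ·)).card := by
        simp only [card_filter]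
        exact sum_comm
    _ = ∑ _s ∈ b.powersetCard i, (m - 1) := by
        refine sum_congr rfl fun s hs => ?_
        obtain ⟨hsb, hsc⟩ := mem_powersetCard.1 hs
        rw [filter_erase, ← hlam s hsc, blocksThrough, card_erase_of_mem]
        exact mem_filter.2 ⟨mem_blocks.2 hb, hsb⟩
    _ = Nat.choose k i * (m - 1) := by
        rw [sum_const, card_powersetCard, hB.1 b hb, smul_eq_mul]

theorem interCount_pos [Fintype α] {b c : Finset α} (hc : c ∈ B) (hne : b ≠ c) :
    0 < interCount B b (b ∩ c).card :=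
  card_pos.2 ⟨c, mem_filter.2 ⟨mem_erase.2 ⟨hne.symm, mem_blocks.2 hc⟩, rfl⟩⟩

/-- The intersection numbers of a Steiner system with parameters (5, 8, 24). -/
theorem interCount_5_8_24 [Fintype α] (hα : Fintype.card α = 24)
    (hB : Cfsg.IsSteinerSystem 5 8 B) {b : Finset α} (hb : b ∈ B) :
    interCount B b 0 = 30 ∧ interCount B b 1 = 0 ∧ interCount B b 2 = 448 ∧
      interCount B b 3 = 0 ∧ interCount B b 4 = 280 := by
  have hl : ∀ s : Finset α, s.card ≤ 5 → (blocksThrough B s).card * Nat.choose (8 - s.card) (5 - s.card)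
      = Nat.choose (24 - s.card) (5 - s.card) := fun s hs => hα ▸ blocksThrough_card_mul hB hs
  have lam : ∀ i m : ℕ, i ≤ 5 → m * Nat.choose (8 - i) (5 - i) = Nat.choose (24 - i) (5 - i) →
      0 < Nat.choose (8 - i) (5 - i) →
      ∑ j ∈ range 5, interCount B b j * Nat.choose j i = Nat.choose 8 i * (m - 1) := by
    intro i m hi hm hpos
    refine sum_interCount_mul_choose hB hb fun s hs => ?_
    have := hl s (hs ▸ hi)
    rw [hs, ← hm] at this
    exact Nat.eq_of_mul_eq_mul_right hpos this
  have e0 := lam 0 759 (by decide) (by decide) (by decide)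
  have e1 := lam 1 253 (by decide) (by decide) (by decide)
  have e2 := lam 2 77 (by decide) (by decide) (by decide)
  have e3 := lam 3 21 (by decide) (by decide) (by decide)
  have e4 := lam 4 5 (by decide) (by decide) (by decide)
  simp [sum_range_succ, Nat.choose] at e0 e1 e2 e3 e4
  omega

/-- The intersection numbers of a Steiner system with parameters (4, 7, 23). -/
theorem interCount_4_7_23 [Fintype α] (hα : Fintype.card α = 23)
    (hB : Cfsg.IsSteinerSystem 4 7 B) {b : Finset α} (hb : b ∈ B) :
    interCount B b 0 = 0 ∧ interCount B b 1 = 112 ∧ interCount B b 2 = 0 ∧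
      interCount B b 3 = 140 := by
  have lam : ∀ i m : ℕ, i ≤ 4 → m * Nat.choose (7 - i) (4 - i) = Nat.choose (23 - i) (4 - i) →
      0 < Nat.choose (7 - i) (4 - i) →
      ∑ j ∈ range 4, interCount B b j * Nat.choose j i = Nat.choose 7 i * (m - 1) := by
    intro i m hi hm hpos
    refine sum_interCount_mul_choose hB hb fun s hs => ?_
    have := blocksThrough_card_mul hB (hs ▸ hi)
    rw [hs, hα, ← hm] at this
    exact Nat.eq_of_mul_eq_mul_right hpos this
  have e0 := lam 0 253 (by decide) (by decide) (by decide)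
  have e1 := lam 1 77 (by decide) (by decide) (by decide)
  have e2 := lam 2 21 (by decide) (by decide) (by decide)
  have e3 := lam 3 5 (by decide) (by decide) (by decide)
  simp [sum_range_succ, Nat.choose] at e0 e1 e2 e3
  omega

/-- The intersection numbers of a Steiner system with parameters (3, 6, 22). -/
theorem interCount_3_6_22 [Fintype α] (hα : Fintype.card α = 22)
    (hB : Cfsg.IsSteinerSystem 3 6 B) {b : Finset α} (hb : b ∈ B) :
    interCount B b 0 = 16 ∧ interCount B b 1 = 0 ∧ interCount B b 2 = 60 := by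
  have lam : ∀ i m : ℕ, i ≤ 3 → m * Nat.choose (6 - i) (3 - i) = Nat.choose (22 - i) (3 - i) →
      0 < Nat.choose (6 - i) (3 - i) →
      ∑ j ∈ range 3, interCount B b j * Nat.choose j i = Nat.choose 6 i * (m - 1) := by
    intro i m hi hm hpos
    refine sum_interCount_mul_choose hB hb fun s hs => ?_
    have := blocksThrough_card_mul hB (hs ▸ hi)
    rw [hs, hα, ← hm] at this
    exact Nat.eq_of_mul_eq_mul_right hpos this
  have e0 := lam 0 77 (by decide) (by decide) (by decide)
  have e1 := lam 1 21 (by decide) (by decide) (by decide)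
  have e2 := lam 2 5 (by decide) (by decide) (by decide)
  simp [sum_range_succ, Nat.choose] at e0 e1 e2
  omega

/-- The intersection numbers of a Steiner system with parameters (5, 6, 12). -/
theorem interCount_5_6_12 [Fintype α] (hα : Fintype.card α = 12)
    (hB : Cfsg.IsSteinerSystem 5 6 B) {b : Finset α} (hb : b ∈ B) :
    interCount B b 0 = 1 ∧ interCount B b 1 = 0 ∧ interCount B b 2 = 45 ∧
      interCount B b 3 = 40 ∧ interCount B b 4 = 45 := by
  have lam : ∀ i m : ℕ, i ≤ 5 → m * Nat.choose (6 - i) (5 - i) = Nat.choose (12 - i) (5 - i) →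
      0 < Nat.choose (6 - i) (5 - i) →
      ∑ j ∈ range 5, interCount B b j * Nat.choose j i = Nat.choose 6 i * (m - 1) := by
    intro i m hi hm hpos
    refine sum_interCount_mul_choose hB hb fun s hs => ?_
    have := blocksThrough_card_mul hB (hs ▸ hi)
    rw [hs, hα, ← hm] at this
    exact Nat.eq_of_mul_eq_mul_right hpos this
  have e0 := lam 0 132 (by decide) (by decide) (by decide)
  have e1 := lam 1 66 (by decide) (by decide) (by decide)
  have e2 := lam 2 30 (by decide) (by decide) (by decide)
  have e3 := lam 3 12 (by decide) (by decide) (by decide)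
  have e4 := lam 4 4 (by decide) (by decide) (by decide)
  simp [sum_range_succ, Nat.choose] at e0 e1 e2 e3 e4
  omega

theorem card_inter_even_5_8_24 [Fintype α] (hα : Fintype.card α = 24)
    (hB : Cfsg.IsSteinerSystem 5 8 B) {b c : Finset α} (hb : b ∈ B) (hc : c ∈ B) (hbc : b ≠ c) :
    (b ∩ c).card = 0 ∨ (b ∩ c).card = 2 ∨ (b ∩ c).card = 4 := by
  obtain ⟨-, h1, -, h3, -⟩ := interCount_5_8_24 hα hB hb
  have hp := interCount_pos (B := B) hc hbc
  have hlt := inter_card_lt hB hb hc hbc
  generalize (b ∩ c).card = j at hp hlt ⊢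
  interval_cases j <;> omega

theorem card_inter_symmDiff (g b c : Finset α) :
    (g ∩ symmDiff b c).card + 2 * (g ∩ (b ∩ c)).card = (g ∩ b).card + (g ∩ c).card := by
  have h1 : (g ∩ b) ∪ (g ∩ c) = (g ∩ symmDiff b c) ∪ (g ∩ (b ∩ c)) := by
    ext x; simp only [mem_union, mem_inter, mem_symmDiff]; tauto
  have h2 : (g ∩ b) ∩ (g ∩ c) = g ∩ (b ∩ c) := by
    ext x; simp only [mem_inter]; tauto
  have h3 : Disjoint (g ∩ symmDiff b c) (g ∩ (b ∩ c)) := by
    rw [Finset.disjoint_left]; intro x; simp only [mem_inter, mem_symmDiff]; tauto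
  have h4 := card_union_add_card_inter (g ∩ b) (g ∩ c)
  rw [h1, h2, card_union_of_disjoint h3] at h4
  omega

theorem card_symmDiff_add (b c : Finset α) :
    (symmDiff b c).card + 2 * (b ∩ c).card = b.card + c.card := by
  have h := card_inter_symmDiff (b ∪ c) b c
  have e1 : (b ∪ c) ∩ symmDiff b c = symmDiff b c := by
    ext x; simp only [mem_union, mem_inter, mem_symmDiff]; tauto
  have e2 : (b ∪ c) ∩ (b ∩ c) = b ∩ c := by
    ext x; simp only [mem_union, mem_inter]; tauto
  rwa [e1, e2, union_inter_cancel_left, union_inter_cancel_right] at h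

theorem even_card_inter_of_block [Fintype α] (hα : Fintype.card α = 24)
    (hB : Cfsg.IsSteinerSystem 5 8 B) {g b : Finset α} (hg : g ∈ B) (hb : b ∈ B) :
    Even (g ∩ b).card := by
  by_cases h : g = b
  · rw [h, inter_self, hB.1 b hb]; decide
  · rcases card_inter_even_5_8_24 hα hB hg hb h with h | h | h <;> rw [h] <;> decide

/-- A set of four points cannot meet every block of an S(5, 8, 24) evenly. -/
theorem exists_odd_inter [Fintype α] (hα : Fintype.card α = 24)
    (hB : Cfsg.IsSteinerSystem 5 8 B) {u : Finset α} (hu : u.card = 4) :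
    ∃ g ∈ B, ¬ Even (g ∩ u).card := by
  obtain ⟨p, hp⟩ := card_pos.1 (by omega : 0 < u.card)
  have h1 : (blocksThrough B {p}).card = 253 := by
    have h := blocksThrough_card_mul hB (s := {p}) (by simp)
    rw [hα, card_singleton, show Nat.choose (8 - 1) (5 - 1) = 35 by decide,
      show Nat.choose (24 - 1) (5 - 1) = 8855 by decide] at h
    omega
  have h2 : ∀ q ∈ u.erase p, (blocksThrough B {p, q}).card = 77 := by
    intro q hq
    have hpq : ({p, q} : Finset α).card = 2 := card_pair (ne_of_mem_erase hq).symm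
    have h := blocksThrough_card_mul hB (s := {p, q}) (by omega)
    rw [hα, hpq, show Nat.choose (8 - 2) (5 - 2) = 20 by decide,
      show Nat.choose (24 - 2) (5 - 2) = 1540 by decide] at h
    omega
  have h3 : ((u.erase p).biUnion fun q => blocksThrough B {p, q}).card ≤ 231 := by
    refine card_biUnion_le.trans ?_
    rw [sum_congr rfl h2, sum_const, card_erase_of_mem hp, hu]
    simp
  obtain ⟨g, hg, hg'⟩ := exists_mem_notMem_of_card_lt_card
    (show ((u.erase p).biUnion fun q => blocksThrough B {p, q}).card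
      < (blocksThrough B {p}).card by omega)
  obtain ⟨hgB, hpg⟩ := mem_blocksThrough.1 hg
  rw [singleton_subset_iff] at hpg
  refine ⟨g, hgB, ?_⟩
  have : g ∩ u = {p} := by
    refine eq_singleton_iff_unique_mem.2 ⟨mem_inter.2 ⟨hpg, hp⟩, fun q hq => ?_⟩
    by_contra hne
    obtain ⟨hqg, hqu⟩ := mem_inter.1 hq
    exact hg' (mem_biUnion.2 ⟨q, mem_erase.2 ⟨hne, hqu⟩,
      mem_blocksThrough.2 ⟨hgB, by simp [insert_subset_iff, hpg, hqg]⟩⟩)
  rw [this, card_singleton]
  decide

/-- In an S(5, 8, 24), the symmetric difference of two blocks meeting in four points is a block. -/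
theorem symmDiff_mem_5_8_24 [Fintype α] (hα : Fintype.card α = 24)
    (hB : Cfsg.IsSteinerSystem 5 8 B) {b c : Finset α} (hb : b ∈ B) (hc : c ∈ B)
    (h4 : (b ∩ c).card = 4) : symmDiff b c ∈ B := by
  have hD : (symmDiff b c).card = 8 := by
    have := card_symmDiff_add b c; rw [hB.1 b hb, hB.1 c hc] at this; omega
  obtain ⟨T, hTD, hT⟩ := exists_subset_card_eq (show 5 ≤ (symmDiff b c).card by omega)
  obtain ⟨e, ⟨he, hTe⟩, -⟩ := hB.2 T hT
  have heven : ∀ g ∈ B, Even (g ∩ symmDiff b c).card := by
    intro g hg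
    have := card_inter_symmDiff g b c
    obtain ⟨x, hx⟩ := even_card_inter_of_block hα hB hg hb
    obtain ⟨y, hy⟩ := even_card_inter_of_block hα hB hg hc
    exact ⟨x + y - (g ∩ (b ∩ c)).card, by omega⟩
  obtain ⟨r, hr⟩ := heven e he
  have h5 : 5 ≤ (e ∩ symmDiff b c).card := hT ▸ card_le_card (subset_inter hTe hTD)
  have h8 : (e ∩ symmDiff b c).card ≤ 8 := hD ▸ card_le_card inter_subset_right
  by_cases h : (e ∩ symmDiff b c).card = 8
  · have e1 : e ∩ symmDiff b c = symmDiff b c :=
      eq_of_subset_of_card_le inter_subset_right (by omega)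
    have e2 : symmDiff b c = e :=
      eq_of_subset_of_card_le (e1 ▸ inter_subset_left) (by rw [hB.1 e he]; omega)
    rwa [e2]
  · exfalso
    have hu : (symmDiff e (symmDiff b c)).card = 4 := by
      have := card_symmDiff_add e (symmDiff b c); rw [hB.1 e he, hD] at this; omega
    obtain ⟨g, hg, hodd⟩ := exists_odd_inter hα hB hu
    have := card_inter_symmDiff g e (symmDiff b c)
    obtain ⟨x, hx⟩ := even_card_inter_of_block hα hB hg he
    obtain ⟨y, hy⟩ := heven g hg
    exact hodd ⟨x + y - (g ∩ (e ∩ symmDiff b c)).card, by omega⟩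

/-- The derived system at a point. -/
theorem derived [Fintype α] (hB : Cfsg.IsSteinerSystem (t + 1) (k + 1) B) (p : α) :
    Cfsg.IsSteinerSystem t k {b' : Finset {a : α // a ≠ p} |
      ∃ b ∈ B, p ∈ b ∧ b' = Finset.subtype (fun a => a ≠ p) b} := by
  refine ⟨?_, fun s hs => ?_⟩
  · rintro _ ⟨b, hb, hp, rfl⟩
    rw [card_subtype, filter_ne', card_erase_of_mem hp, hB.1 b hb, Nat.add_sub_cancel]
  · have hnp : p ∉ s.map (Function.Embedding.subtype _) := by simp
    have hcard : (insert p (s.map (Function.Embedding.subtype fun a => a ≠ p))).card = t + 1 := by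
      rw [card_insert_of_notMem hnp, card_map, hs]
    obtain ⟨b, ⟨hb, hsub⟩, huniq⟩ := hB.2 _ hcard
    obtain ⟨hp, hsub⟩ := insert_subset_iff.1 hsub
    refine ⟨Finset.subtype _ b, ⟨⟨b, hb, hp, rfl⟩, ?_⟩, ?_⟩
    · intro a ha
      exact mem_subtype.2 (hsub (mem_map_of_mem _ ha))
    · rintro _ ⟨⟨b', hb', hp', rfl⟩, hs'⟩
      rw [huniq b' ⟨hb', insert_subset_iff.2 ⟨hp', fun a ha => ?_⟩⟩]
      obtain ⟨a', ha', rfl⟩ := mem_map.1 ha
      exact mem_subtype.1 (hs' ha')

end CfsgLib.Steiner
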